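import Groth.Agent.AffStratLib.Dim
import Groth.Agent.AbSchLib.DimFinite
import Groth.Agent.FibDimLib.Pure
import Groth.Agent.FibDimLib.ClosureDim
import Groth.Agent.TopDimLib.QuasiFinite

/-!
# Dimension by maps to affine spaces
-/

set_option backward.isDefEq.respectTransparency false
set_option backward.isDefEq.respectTransparency.types false

universe u

open CategoryTheory Limits AlgebraicGeometry TopologicalSpace Topology

namespace DimNoetherLib

variable {k : Type u} [Field k]

theorem dim_affineSpace (n : ℕ) :
    topologicalKrullDim ↥𝔸(ULift.{u} (Fin n); Spec (CommRingCat.of k)) = n := by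
  rw [IsHomeomorph.topologicalKrullDim_eq _
    (TopCat.homeoOfIso (Scheme.forgetToTop.mapIso (AffineSpace.SpecIso (ULift.{u} (Fin n)) (CommRingCat.of k)))).isHomeomorph]
  refine (PrimeSpectrum.topologicalKrullDim_eq_ringKrullDim (MvPolynomial (ULift.{u} (Fin n)) k)).trans ?_
  rw [MvPolynomial.ringKrullDim_of_isNoetherianRing, ringKrullDim_eq_zero_of_field, zero_add]
  simp

/-- A dense open has full dimension. -/
theorem dim_dense_open {X : Scheme.{u}} (f : X ⟶ Spec (CommRingCat.of k)) [LocallyOfFiniteType f] [QuasiCompact f]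
    {U : X.Opens} (hU : Dense (U : Set X)) : topologicalKrullDim (U : Set X) = topologicalKrullDim (X : Type u) := by
  refine le_antisymm (IsInducing.subtypeVal.topologicalKrullDim_le) ?_
  haveI : IsLocallyNoetherian X := LocallyOfFiniteType.isLocallyNoetherian f
  haveI : CompactSpace X := QuasiCompact.compactSpace_of_compactSpace f
  haveI : IsNoetherian X := ⟨⟩
  refine FibDimLib.topologicalKrullDim_le_of_points fun x => ?_
  obtain ⟨D, hD, hxD⟩ := Set.mem_sUnion.1 ((sUnion_irreducibleComponents (X := ↥X)).ge (Set.mem_univ x))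
  obtain ⟨y, hyD, hyU⟩ := AffStratLib.exists_mem_of_dense (NoetherianSpace.finite_irreducibleComponents) hD hU
  let η := IsIrreducible.genericPoint hD.1
  have hη : closure ({η} : Set X) = D :=
    IsIrreducible.closure_genericPoint hD.1 (isClosed_of_mem_irreducibleComponents _ hD)
  have hηU : η ∈ U := (specializes_iff_mem_closure.2 (hη.ge hyD)).mem_open U.isOpen hyU
  have h1 : topologicalKrullDim (closure ({x} : Set X)) ≤ topologicalKrullDim (closure ({η} : Set X)) :=
    (Topology.IsEmbedding.inclusion (closure_minimal (Set.singleton_subset_iff.2 (hη.ge hxD)) isClosed_closure)).isInducing.topologicalKrullDim_le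
  refine h1.trans ?_
  haveI : LocallyOfFiniteType (Over.mk f).hom := ‹LocallyOfFiniteType f›
  exact (FibDimLib.topologicalKrullDim_closure_open (Over.mk f) U ⟨η, hηU⟩).symm.trans_le
    (IsInducing.subtypeVal.topologicalKrullDim_le)

/-- Surjective morphisms of schemes of finite type over a field do not raise the dimension. -/
theorem dim_le_of_surjective {X Y : Scheme.{u}} (q : Y ⟶ Spec (CommRingCat.of k)) [LocallyOfFiniteType q]
    (g : X ⟶ Y) [LocallyOfFiniteType g] (hg : Function.Surjective g.base) :
    topologicalKrullDim (Y : Type u) ≤ topologicalKrullDim (X : Type u) := by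
  refine FibDimLib.topologicalKrullDim_le_of_points fun y => ?_
  obtain ⟨x, rfl⟩ := hg y
  refine le_trans ?_ (IsInducing.subtypeVal (t := closure ({x} : Set X))).topologicalKrullDim_le
  rw [FibDimLib.topologicalKrullDim_closure_eq_add q g x]
  refine le_add_of_nonneg_right ?_
  rw [UOpenLib.fibreClosureDim]
  haveI : Nonempty (IrreducibleCloseds (closure ({g.asFiber x} : Set (g.fiber (g.base x))))) :=
    ⟨⟨closure {⟨g.asFiber x, subset_closure rfl⟩}, isIrreducible_singleton.closure, isClosed_closure⟩⟩
  exact Order.krullDim_nonneg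

/-- Finite morphisms to affine `n`-space bound the dimension. -/
theorem dim_le_of_finite {X : Scheme.{u}} {n : ℕ} (g : X ⟶ 𝔸(ULift.{u} (Fin n); Spec (CommRingCat.of k))) [IsFinite g] :
    topologicalKrullDim (X : Type u) ≤ n := by
  rw [Groth.Agent.TopDimLib.topologicalKrullDim_eq_range_of_isFinite g, ← dim_affineSpace (k := k) n]
  exact IsInducing.subtypeVal.topologicalKrullDim_le

open MvPolynomial in
/-- Normalization with a prescribed number of variables. -/
theorem exists_hom (A : Type u) [CommRing A] [Algebra k A] [Algebra.FiniteType k A] (n : ℕ) :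
    ((n : WithBot ℕ∞) ≤ ringKrullDim A → ∃ φ : MvPolynomial (ULift.{u} (Fin n)) k →ₐ[k] A,
      Function.Surjective (PrimeSpectrum.comap φ.toRingHom)) ∧
    (ringKrullDim A ≤ n → ∃ φ : MvPolynomial (ULift.{u} (Fin n)) k →ₐ[k] A, φ.Finite) ∧
    (ringKrullDim A = n → ∃ φ : MvPolynomial (ULift.{u} (Fin n)) k →ₐ[k] A,
      φ.Finite ∧ Function.Surjective (PrimeSpectrum.comap φ.toRingHom)) := by
  rcases subsingleton_or_nontrivial A with hA | hA
  · refine ⟨fun h => ?_, fun _ => ⟨aeval 0, RingHom.Finite.of_surjective _ fun a => ⟨0, Subsingleton.elim _ _⟩⟩,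
      fun h => ?_⟩ <;>
    · rw [ringKrullDim_eq_bot_of_subsingleton] at h
      simp at h
  obtain ⟨s, ν, hν, hνf⟩ := exists_finite_inj_algHom_of_fg k A
  have hνi : ν.toRingHom.IsIntegral := RingHom.IsIntegral.of_finite hνf
  have hνs : Function.Surjective (PrimeSpectrum.comap ν.toRingHom) := hνi.comap_surjective hν
  have hdim : ringKrullDim A = s := by
    haveI : IsFinite (Spec.map (CommRingCat.ofHom ν.toRingHom)) := (IsFinite.SpecMap_iff _).2 hνf
    haveI : Surjective (Spec.map (CommRingCat.ofHom ν.toRingHom)) := ⟨hνs⟩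
    have h1 := AbSchLib.topologicalKrullDim_eq_of_finite_surjective (Spec.map (CommRingCat.ofHom ν.toRingHom))
    refine ((PrimeSpectrum.topologicalKrullDim_eq_ringKrullDim A).symm.trans (h1.trans
      (PrimeSpectrum.topologicalKrullDim_eq_ringKrullDim (MvPolynomial (Fin s) k)))).trans ?_
    rw [MvPolynomial.ringKrullDim_of_isNoetherianRing, ringKrullDim_eq_zero_of_field, zero_add]
    simp
  refine ⟨fun h => ?_, fun h => ?_, fun h => ?_⟩ <;> rw [hdim] at h
  · have hns : n ≤ s := by exact_mod_cast h
    let e : ULift.{u} (Fin n) → Fin s := fun i => Fin.castLE hns i.down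
    have he : Function.Injective e := fun i j hij => ULift.down_injective (Fin.castLE_injective hns hij)
    refine ⟨ν.comp (rename e), fun p => ?_⟩
    obtain ⟨q, hq⟩ := hνs (PrimeSpectrum.comap (killCompl he).toRingHom p)
    refine ⟨q, ?_⟩
    rw [show (ν.comp (rename e)).toRingHom = ν.toRingHom.comp (rename e).toRingHom from rfl,
      PrimeSpectrum.comap_comp_apply, hq, ← PrimeSpectrum.comap_comp_apply]
    exact PrimeSpectrum.ext (Ideal.ext fun a => by simp [killCompl_rename_app he])
  · have hns : s ≤ n := by exact_mod_cast h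
    let e : Fin s → ULift.{u} (Fin n) := fun i => ULift.up (Fin.castLE hns i)
    have he : Function.Injective e := fun i j hij => Fin.castLE_injective hns (congrArg ULift.down hij)
    exact ⟨ν.comp (killCompl he), hνf.comp (RingHom.Finite.of_surjective _ fun a => ⟨rename e a, killCompl_rename_app he a⟩)⟩
  · have hns : s = n := by exact_mod_cast h
    subst hns
    let e := MvPolynomial.renameEquiv k (Equiv.ulift.{u} (α := Fin s))
    refine ⟨ν.comp e.toAlgHom, hνf.comp (RingHom.Finite.of_surjective _ e.surjective), ?_⟩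
    rw [show (ν.comp e.toAlgHom).toRingHom = ν.toRingHom.comp e.toRingEquiv.toRingHom from rfl]
    intro p
    obtain ⟨q, hq⟩ := hνs (PrimeSpectrum.comap e.symm.toRingEquiv.toRingHom p)
    refine ⟨q, ?_⟩
    rw [PrimeSpectrum.comap_comp_apply, hq, ← PrimeSpectrum.comap_comp_apply]
    exact PrimeSpectrum.ext (Ideal.ext fun a => by simp)

end DimNoetherLib
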